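import Mathlib.LinearAlgebra.Matrix.GeneralLinearGroup.Basic
import Mathlib.GroupTheory.QuotientGroup.Basic
import Mathlib.GroupTheory.OrderOfElement

/-!
The preimage in the special linear group of a projective representation with trivial centre.
-/

set_option autoImplicit false

namespace Cfsg.Agent.H37.ONTriple

open Matrix.SpecialLinearGroup (toGL)

theorem exists_cover {K : Type*} [CommRing K] {k m : ℕ} {G ι : Type*} [Group G]
    (p : G →* GL (Fin k) K ⧸ Subgroup.center (GL (Fin k) K)) (hp : Function.Injective p)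
    (hcen : Subgroup.center G = ⊥) (gens : ι → G) (hgen : Subgroup.closure (Set.range gens) = ⊤)
    (g : ι → GL (Fin k) K) (hg : ∀ i, p (gens i) = QuotientGroup.mk' (Subgroup.center (GL (Fin k) K)) (g i))
    (hdet : ∀ i, Matrix.GeneralLinearGroup.det (g i) = 1) (ω : GL (Fin k) K)
    (hω : ω ∈ Subgroup.closure (Set.range g)) (hωc : ω ∈ Subgroup.center (GL (Fin k) K)) (hord : orderOf ω = m)
    (hscal : ∀ h ∈ Subgroup.center (GL (Fin k) K), Matrix.GeneralLinearGroup.det h = 1 → h ∈ Subgroup.zpowers ω) :
    ∃ H : Subgroup (Matrix.SpecialLinearGroup (Fin k) K),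
      Nat.card (Subgroup.center H) = m ∧ Nonempty (H ⧸ Subgroup.center H ≃* G) := by
  classical
  let s : ι → Matrix.SpecialLinearGroup (Fin k) K := fun i =>
    ⟨(g i : Matrix (Fin k) (Fin k) K), congrArg Units.val (hdet i)⟩
  have hs : ∀ i, toGL (s i) = g i := fun i => Units.ext rfl
  set H : Subgroup (Matrix.SpecialLinearGroup (Fin k) K) := Subgroup.closure (Set.range s) with hH
  have hmap : H.map toGL = Subgroup.closure (Set.range g) := by
    rw [hH, MonoidHom.map_closure, ← Set.range_comp]
    exact congrArg _ (congrArg Set.range (funext hs))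
  let q : H →* GL (Fin k) K ⧸ Subgroup.center (GL (Fin k) K) :=
    (QuotientGroup.mk' _).comp ((toGL).comp H.subtype)
  have hq : q.range = p.range := by
    rw [MonoidHom.range_eq_map p, ← hgen, MonoidHom.map_closure, ← Set.range_comp]
    show ((QuotientGroup.mk' _).comp ((toGL).comp H.subtype)).range = _
    rw [MonoidHom.range_comp, MonoidHom.range_comp, Subgroup.range_subtype, hmap, MonoidHom.map_closure,
      ← Set.range_comp]
    exact congrArg _ (congrArg Set.range (funext fun i => (hg i).symm))
  let ψ : H →* G := (MonoidHom.ofInjective hp).symm.toMonoidHom.comp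
    ((MulEquiv.subgroupCongr hq).toMonoidHom.comp q.rangeRestrict)
  have hψs : Function.Surjective ψ := by
    refine (MonoidHom.ofInjective hp).symm.surjective.comp
      ((MulEquiv.subgroupCongr hq).surjective.comp q.rangeRestrict_surjective)
  have hker : ψ.ker = q.ker := by
    ext h
    rw [MonoidHom.mem_ker, MonoidHom.mem_ker]
    simp only [ψ, MonoidHom.comp_apply, MulEquiv.coe_toMonoidHom]
    rw [MulEquiv.map_eq_one_iff, MulEquiv.map_eq_one_iff]
    exact ⟨fun e => congrArg Subtype.val e, fun e => Subtype.ext e⟩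
  have hz : Subgroup.center H = ψ.ker := by
    refine le_antisymm (fun h hh => ?_) (fun h hh => ?_)
    · have : ψ h ∈ Subgroup.center G := Subgroup.mem_center_iff.2 fun x => by
        obtain ⟨y, rfl⟩ := hψs x
        rw [← map_mul, ← map_mul, Subgroup.mem_center_iff.1 hh y]
      rwa [hcen, Subgroup.mem_bot] at this
    · rw [hker, MonoidHom.mem_ker] at hh
      have hc : toGL (h : Matrix.SpecialLinearGroup (Fin k) K) ∈ Subgroup.center (GL (Fin k) K) :=
        (QuotientGroup.eq_one_iff _).1 hh
      rw [Subgroup.mem_center_iff]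
      intro y
      apply Subtype.ext
      apply Matrix.SpecialLinearGroup.toGL_injective
      rw [Subgroup.coe_mul, Subgroup.coe_mul, map_mul, map_mul, Subgroup.mem_center_iff.1 hc]
  have hzc : (Subgroup.center H).map (toGL.comp H.subtype) = Subgroup.zpowers ω := by
    refine le_antisymm ?_ (Subgroup.zpowers_le.2 ?_)
    · rintro _ ⟨h, hh, rfl⟩
      have hh' : h ∈ q.ker := by
        rw [← hker, ← hz]; exact hh
      refine hscal _ ((QuotientGroup.eq_one_iff _).1 (MonoidHom.mem_ker.1 hh')) (Units.ext ?_)
      exact (h : Matrix.SpecialLinearGroup (Fin k) K).2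
    · rw [← hmap] at hω
      obtain ⟨h, hh, hhω⟩ := hω
      refine ⟨⟨h, hh⟩, ?_, hhω⟩
      show (⟨h, hh⟩ : H) ∈ Subgroup.center H
      rw [hz, hker, MonoidHom.mem_ker]
      exact (QuotientGroup.eq_one_iff _).2 (hhω ▸ hωc)
  refine ⟨H, ?_, ⟨(QuotientGroup.quotientMulEquivOfEq hz).trans
    (QuotientGroup.quotientKerEquivOfSurjective ψ hψs)⟩⟩
  rw [← hord, ← Nat.card_zpowers, ← hzc]
  refine (Subgroup.card_map_of_injective ?_).symm
  exact Matrix.SpecialLinearGroup.toGL_injective.comp H.subtype_injective

end Cfsg.Agent.H37.ONTriple
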